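import Groth.Agent.S15749
import Mathlib

/-!
# Substitutions in Laurent series and roots of unity
-/

set_option autoImplicit false
set_option linter.style.haveILetI false

universe u

noncomputable section

namespace Groth.Agent.H9Laurent

variable {R S : Type u} [CommRing R] [CommRing S]

/-- Coefficientwise application of a ring map. -/
def mapHom (f : R →+* S) : LaurentSeries R →+* LaurentSeries S where
  toFun x := x.map f
  map_one' := by
    ext i
    rw [HahnSeries.map_coeff, HahnSeries.coeff_one, HahnSeries.coeff_one]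
    split_ifs <;> simp
  map_mul' x y := HahnSeries.map_mul f.toNonUnitalRingHom
  map_zero' := by ext; simp
  map_add' x y := by ext; simp

theorem mapHom_coeff (f : R →+* S) (x : LaurentSeries R) (i : ℤ) : (mapHom f x).coeff i = f (x.coeff i) := rfl

theorem mapHom_ofPowerSeries (f : R →+* S) (p : PowerSeries R) :
    mapHom f (HahnSeries.ofPowerSeries ℤ R p) = HahnSeries.ofPowerSeries ℤ S (PowerSeries.map f p) := by
  ext i
  rw [mapHom_coeff, PowerSeries.coeff_coe, PowerSeries.coeff_coe]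
  split_ifs with h
  · simp
  · rw [PowerSeries.coeff_map]

theorem eq_mapHom (f : R →+* S) (ρ : LaurentSeries R →+* LaurentSeries S)
    (hρ : ρ.comp (HahnSeries.ofPowerSeries ℤ R) = (HahnSeries.ofPowerSeries ℤ S).comp (PowerSeries.map f)) :
    ρ = mapHom f :=
  IsLocalization.ringHom_ext (Submonoid.powers (PowerSeries.X : PowerSeries R)) (RingHom.ext fun p =>
    (RingHom.congr_fun hρ p).trans (mapHom_ofPowerSeries f p).symm)

/-- Multiply the `i`-th coefficient by `z ^ i`. -/
def twist (z : Rˣ) : LaurentSeries R →+* LaurentSeries R where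
  toFun x :=
    { coeff := fun i => ((z ^ i : Rˣ) : R) * x.coeff i
      isPWO_support' := x.isPWO_support.mono fun i hi h => hi (by simp [h]) }
  map_one' := by
    ext i
    show ((z ^ i : Rˣ) : R) * _ = _
    rw [HahnSeries.coeff_one]
    split_ifs with h
    · simp [h]
    · simp
  map_zero' := by ext i; show ((z ^ i : Rˣ) : R) * (0 : LaurentSeries R).coeff i = _; simp
  map_add' x y := by
    ext i
    show ((z ^ i : Rˣ) : R) * (x + y).coeff i = _
    rw [HahnSeries.coeff_add, mul_add]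
    rfl
  map_mul' x y := by
    ext k
    show ((z ^ k : Rˣ) : R) * (x * y).coeff k = _
    rw [HahnSeries.coeff_mul, HahnSeries.coeff_mul, Finset.mul_sum]
    refine Finset.sum_congr ?_ fun ij hij => ?_
    · ext ij
      simp only [Finset.mem_antidiagonal, HahnSeries.mem_support, ne_eq, Units.mul_right_eq_zero]
    · simp only [Finset.mem_antidiagonal] at hij
      show ((z ^ k : Rˣ) : R) * (x.coeff ij.1 * y.coeff ij.2) =
        ((z ^ ij.1 : Rˣ) : R) * x.coeff ij.1 * (((z ^ ij.2 : Rˣ) : R) * y.coeff ij.2)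
      rw [← hij.2.2, zpow_add, Units.val_mul]
      ring

theorem twist_coeff (z : Rˣ) (x : LaurentSeries R) (i : ℤ) :
    (twist z x).coeff i = ((z ^ i : Rˣ) : R) * x.coeff i := rfl

theorem mapHom_twist (f : R →+* S) (z : Rˣ) (x : LaurentSeries R) :
    mapHom f (twist z x) = twist (Units.map f.toMonoidHom z) (mapHom f x) := by
  ext i
  rw [mapHom_coeff, twist_coeff, twist_coeff, mapHom_coeff, map_mul, ← map_zpow]
  rfl

section Substitution

variable {d : ℕ} (hd : 0 < d) {hinj : Function.Injective (AddMonoidHom.mulLeft (d : ℤ))}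
  {hmono : ∀ g g' : ℤ, AddMonoidHom.mulLeft (d : ℤ) g ≤ AddMonoidHom.mulLeft (d : ℤ) g' ↔ g ≤ g'}

theorem emb_coeff_mul (x : LaurentSeries R) (i : ℤ) :
    (HahnSeries.embDomainRingHom (R := R) (AddMonoidHom.mulLeft (d : ℤ)) hinj hmono x).coeff (d * i) = x.coeff i :=
  HahnSeries.embDomain_mk_coeff hinj hmono

theorem emb_coeff_not_dvd (x : LaurentSeries R) {j : ℤ} (hj : ¬ (d : ℤ) ∣ j) :
    (HahnSeries.embDomainRingHom (R := R) (AddMonoidHom.mulLeft (d : ℤ)) hinj hmono x).coeff j = 0 :=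
  HahnSeries.embDomain_of_notMem_range fun ⟨i, hi⟩ => hj ⟨i, hi.symm⟩

theorem emb_injective :
    Function.Injective (HahnSeries.embDomainRingHom (R := R) (AddMonoidHom.mulLeft (d : ℤ)) hinj hmono) :=
  fun x y h => HahnSeries.ext (funext fun i => by
    rw [← emb_coeff_mul (hinj := hinj) (hmono := hmono) x i, h, emb_coeff_mul])

theorem mapHom_emb (f : R →+* S) (x : LaurentSeries R) :
    mapHom f (HahnSeries.embDomainRingHom (R := R) (AddMonoidHom.mulLeft (d : ℤ)) hinj hmono x) =
      HahnSeries.embDomainRingHom (R := S) (AddMonoidHom.mulLeft (d : ℤ)) hinj hmono (mapHom f x) := by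
  ext j
  by_cases hj : (d : ℤ) ∣ j
  · obtain ⟨i, rfl⟩ := hj
    rw [mapHom_coeff, emb_coeff_mul, emb_coeff_mul, mapHom_coeff]
  · rw [mapHom_coeff, emb_coeff_not_dvd x hj, emb_coeff_not_dvd _ hj, map_zero]

theorem twist_emb (z : Rˣ) (hz : z ^ d = 1) (x : LaurentSeries R) :
    twist z (HahnSeries.embDomainRingHom (R := R) (AddMonoidHom.mulLeft (d : ℤ)) hinj hmono x) =
      HahnSeries.embDomainRingHom (R := R) (AddMonoidHom.mulLeft (d : ℤ)) hinj hmono x := by
  ext j
  rw [twist_coeff]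
  by_cases hj : (d : ℤ) ∣ j
  · obtain ⟨i, rfl⟩ := hj
    rw [zpow_mul, zpow_natCast, hz, one_zpow, Units.val_one, one_mul]
  · rw [emb_coeff_not_dvd x hj, mul_zero]

include hd in
theorem exists_emb_eq (z : Rˣ) (hunit : ∀ j : ℤ, ¬ (d : ℤ) ∣ j → IsUnit (((z ^ j : Rˣ) : R) - 1))
    (x : LaurentSeries R) (hx : twist z x = x) :
    ∃ y, HahnSeries.embDomainRingHom (R := R) (AddMonoidHom.mulLeft (d : ℤ)) hinj hmono y = x := by
  have h0 : ∀ j : ℤ, ¬ (d : ℤ) ∣ j → x.coeff j = 0 := fun j hj => (hunit j hj).mul_right_eq_zero.1 (by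
    rw [sub_mul, one_mul, ← twist_coeff, hx, sub_self])
  refine ⟨⟨fun i => x.coeff (d * i), ?_⟩, ?_⟩
  · have hdz : (0 : ℤ) < d := by exact_mod_cast hd
    intro f
    obtain ⟨m, n, hmn, hle⟩ := x.isPWO_support fun k => ⟨(d : ℤ) * (f k).1, (f k).2⟩
    exact ⟨m, n, hmn, le_of_mul_le_mul_left hle hdz⟩
  · ext j
    by_cases hj : (d : ℤ) ∣ j
    · obtain ⟨i, rfl⟩ := hj
      rw [emb_coeff_mul]
    · rw [emb_coeff_not_dvd _ hj, h0 j hj]

end Substitution

/-- Primitive roots of unity of order invertible in a strictly henselian ring. -/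
theorem exists_root_unit (R : Type u) [CommRing R] [HenselianLocalRing R] [IsSepClosed (IsLocalRing.ResidueField R)]
    (d : ℕ) (hd : 0 < d) (hdu : IsUnit (d : R)) :
    ∃ z : Rˣ, z ^ d = 1 ∧ ∀ j : ℤ, ¬ (d : ℤ) ∣ j → IsUnit (((z ^ j : Rˣ) : R) - 1) := by
  let k := IsLocalRing.ResidueField R
  let res := IsLocalRing.residue R
  haveI : NeZero (d : k) := ⟨by
    have h := hdu.map res
    rw [map_natCast] at h
    exact h.ne_zero⟩
  obtain ⟨ζ, hζ⟩ := HasEnoughRootsOfUnity.exists_primitiveRoot k d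
  obtain ⟨a₀, ha₀⟩ := IsLocalRing.residue_surjective ζ
  obtain ⟨a, ha, ha'⟩ := HenselianLocalRing.is_henselian (Polynomial.X ^ d - Polynomial.C (1 : R))
    (Polynomial.monic_X_pow_sub_C _ hd.ne') a₀ (by
      rw [← Ideal.Quotient.eq_zero_iff_mem]
      show res _ = 0
      simp [res, ha₀, hζ.pow_eq_one]) (by
      rw [← IsLocalRing.notMem_maximalIdeal, ← Ideal.Quotient.eq_zero_iff_mem]
      show ¬ res _ = 0
      simp [res, ha₀, Polynomial.derivative_X_pow, NeZero.ne (d : k), hζ.ne_zero hd.ne'])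
  rw [Polynomial.IsRoot, Polynomial.eval_sub, Polynomial.eval_pow, Polynomial.eval_X, Polynomial.eval_C, sub_eq_zero] at ha
  refine ⟨Units.ofPowEqOne a d ha hd.ne', Units.pow_ofPowEqOne ha hd.ne', fun j hj => ?_⟩
  have hres : res a = ζ := by rw [← ha₀]; exact Ideal.Quotient.eq.2 ha'
  rw [← IsLocalRing.notMem_maximalIdeal, ← Ideal.Quotient.eq_zero_iff_mem]
  show ¬ res _ = 0
  rw [map_sub, map_one, sub_eq_zero]
  intro h
  refine hj ((hζ.zpow_eq_one_iff_dvd j).1 ?_)
  have e : ∀ u : Rˣ, res ((u ^ j : Rˣ) : R) = res (u : R) ^ j := fun u => by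
    change ((Units.map res.toMonoidHom (u ^ j) : kˣ) : k) = _
    rw [map_zpow, Units.val_zpow_eq_zpow_val]
    rfl
  rw [← hres, ← h, e]
  rfl

theorem connectedSpace (R : Type u) [CommRing R] [IsLocalRing R] {C : Set (PrimeSpectrum (LaurentSeries R))}
    (hC : IsClopen C) : C = ∅ ∨ C = Set.univ := by
  obtain ⟨e, f, hef, hsum, rfl⟩ := PrimeSpectrum.isClopen_iff_mul_add.1 hC
  have he : IsIdempotentElem e := by
    have : e * (e + f) = e := by rw [hsum, mul_one]
    rwa [mul_add, hef, add_zero] at this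
  obtain ⟨r, ⟨hr, hre⟩, -⟩ := S15749.result R e he
  have hr01 : r = 0 ∨ r = 1 := by
    rcases IsLocalRing.isUnit_or_isUnit_one_sub_self r with h | h
    · exact Or.inr ((h.mul_left_inj).1 (by rw [one_mul]; exact hr))
    · refine Or.inl ((h.mul_left_eq_zero).1 ?_)
      rw [mul_sub, mul_one, hr.eq, sub_self]
  rcases hr01 with rfl | rfl
  · left
    rw [← hre, map_zero]
    simp
  · right
    rw [← hre, map_one]
    simp

end Groth.Agent.H9Laurent
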