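import Groth.Agent.H9Laurent.Series
import Mathlib.AlgebraicGeometry.Limits
import Mathlib.AlgebraicGeometry.Morphisms.Etale
import Mathlib.AlgebraicGeometry.Morphisms.Finite

/-!
# Points of covers split by an extension with connected spectrum
-/

set_option autoImplicit false
set_option linter.style.haveILetI false

universe u

open CategoryTheory CategoryTheory.Limits AlgebraicGeometry

noncomputable section

namespace Groth.Agent.H9Laurent

theorem factor_component {n : ℕ} {Q T : Scheme.{u}} [Nonempty T]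
    (hT : ∀ C : Set T, IsClopen C → C = ∅ ∨ C = Set.univ) (w : T ⟶ ∐ fun _ : Fin n => Q) :
    ∃ (j : Fin n) (m : T ⟶ Q), w = m ≫ Sigma.ι (fun _ : Fin n => Q) j := by
  let ι := Sigma.ι (fun _ : Fin n => Q)
  have hcov : ∀ x : T, ∃ j, w x ∈ Set.range (ι j) := fun x => by
    obtain ⟨j, y, hy⟩ := (sigmaOpenCover fun _ : Fin n => Q).exists_eq (w x)
    exact ⟨j, y, hy⟩
  have hdis : ∀ (x : T) (i j : Fin n), w x ∈ Set.range (ι i) → w x ∈ Set.range (ι j) → i = j := by
    rintro x i j ⟨y, hy⟩ ⟨z, hz⟩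
    exact congrArg Sigma.fst ((sigmaι_eq_iff (fun _ : Fin n => Q) i j y z).1 (hy.trans hz.symm))
  have hopen : ∀ j, IsOpen (w ⁻¹' Set.range (ι j)) := fun j =>
    (IsOpenImmersion.isOpen_range (ι j)).preimage w.continuous
  obtain ⟨x₀⟩ := ‹Nonempty T›
  obtain ⟨j, hj⟩ := hcov x₀
  have hclosed : IsClosed (w ⁻¹' Set.range (ι j)) := by
    rw [← isOpen_compl_iff, show (w ⁻¹' Set.range (ι j))ᶜ = ⋃ i : {i : Fin n // i ≠ j}, w ⁻¹' Set.range (ι i.1) from ?_]
    · exact isOpen_iUnion fun i => hopen i.1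
    ext x
    simp only [Set.mem_compl_iff, Set.mem_preimage, Set.mem_iUnion]
    refine ⟨fun hx => ?_, fun ⟨i, hi⟩ hx => i.2 (hdis x _ _ hi hx)⟩
    obtain ⟨i, hi⟩ := hcov x
    exact ⟨⟨i, fun h => hx (h ▸ hi)⟩, hi⟩
  rcases hT _ ⟨hclosed, hopen j⟩ with h | h
  · exact absurd (show x₀ ∈ w ⁻¹' Set.range (ι j) from hj) (by rw [h]; exact id)
  refine ⟨j, IsOpenImmersion.lift (ι j) w ?_, (IsOpenImmersion.lift_fac _ _ _).symm⟩
  rintro _ ⟨x, rfl⟩
  exact Set.eq_univ_iff_forall.1 h x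

theorem component_unique {n : ℕ} {Q T : Scheme.{u}} [Nonempty T] (j k : Fin n) (m m' : T ⟶ Q)
    (h : m ≫ Sigma.ι (fun _ : Fin n => Q) j = m' ≫ Sigma.ι (fun _ : Fin n => Q) k) : j = k := by
  obtain ⟨x⟩ := ‹Nonempty T›
  have h' := congrArg (fun f : T ⟶ ∐ fun _ : Fin n => Q => f x) h
  simp only [Scheme.Hom.comp_apply] at h'
  exact congrArg Sigma.fst ((sigmaι_eq_iff (fun _ : Fin n => Q) j k _ _).1 h')

variable {K Q X T : Scheme.{u}} (p : X ⟶ K) (E : Q ⟶ K) {n : ℕ} (e : pullback p E ≅ ∐ fun _ : Fin n => Q)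
  (he : e.hom ≫ Sigma.desc (fun _ : Fin n => 𝟙 Q) = pullback.snd p E)

include he in
theorem inv_snd (j : Fin n) : Sigma.ι (fun _ : Fin n => Q) j ≫ e.inv ≫ pullback.snd p E = 𝟙 Q := by
  rw [← he, Iso.inv_hom_id_assoc]
  simp

include he in
/-- Points over a connected scheme mapping to `Q` extend uniquely to points over `Q`. -/
theorem existsUnique_point [Nonempty T] [Nonempty Q] (hT : ∀ C : Set T, IsClopen C → C = ∅ ∨ C = Set.univ)
    (hQ : ∀ C : Set Q, IsClopen C → C = ∅ ∨ C = Set.univ) (r : T ⟶ Q) (v : T ⟶ X) (hv : v ≫ p = r ≫ E) :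
    ∃! u : Q ⟶ X, u ≫ p = E ∧ r ≫ u = v := by
  have key : ∀ {T' : Scheme.{u}} [Nonempty T'] (_ : ∀ C : Set T', IsClopen C → C = ∅ ∨ C = Set.univ) (r' : T' ⟶ Q)
      (v' : T' ⟶ X) (hv' : v' ≫ p = r' ≫ E), ∃ j : Fin n,
        pullback.lift v' r' hv' ≫ e.hom = r' ≫ Sigma.ι (fun _ : Fin n => Q) j := by
    intro T' _ hT' r' v' hv'
    obtain ⟨j, m, hm⟩ := factor_component hT' (pullback.lift v' r' hv' ≫ e.hom)
    refine ⟨j, ?_⟩
    have h := congrArg (· ≫ Sigma.desc (fun _ : Fin n => 𝟙 Q)) hm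
    simp only [Category.assoc, he, pullback.lift_snd, Sigma.ι_desc, Category.comp_id] at h
    rw [hm, h]
  obtain ⟨j, hj⟩ := key hT r v hv
  let u : Q ⟶ X := Sigma.ι (fun _ : Fin n => Q) j ≫ e.inv ≫ pullback.fst p E
  have hu : u ≫ p = E := by
    simp only [u, Category.assoc, pullback.condition]
    rw [reassoc_of% (inv_snd p E e he j)]
  refine ⟨u, ⟨hu, ?_⟩, fun u' hu' => ?_⟩
  · simp only [u]
    rw [← Category.assoc, ← hj, Category.assoc, Iso.hom_inv_id_assoc, pullback.lift_fst]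
  · obtain ⟨k, hk⟩ := key hQ (𝟙 Q) u' (by rw [Category.id_comp]; exact hu'.1)
    replace hk := hk.trans (Category.id_comp _)
    have hjk : j = k := component_unique j k r r (by
      rw [← hj, ← hk, ← Category.assoc]
      congr 1
      refine pullback.hom_ext ?_ ?_
      · rw [pullback.lift_fst, Category.assoc, pullback.lift_fst, hu'.2]
      · rw [pullback.lift_snd, Category.assoc, pullback.lift_snd, Category.comp_id])
    simp only [u, hjk]
    rw [← hk, Category.assoc, Iso.hom_inv_id_assoc, pullback.lift_fst]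

theorem spec_clopen (R : Type u) [CommRing R] [IsLocalRing R]
    (C : Set (Spec (CommRingCat.of (LaurentSeries R)))) (hC : IsClopen C) : C = ∅ ∨ C = Set.univ :=
  connectedSpace R hC

theorem cancel_spec {A B : Type u} [CommRing A] [CommRing B] (f : A →+* B) (hf : Function.Injective f) [IsAffine X]
    {a b : Spec (CommRingCat.of A) ⟶ X}
    (h : Spec.map (CommRingCat.ofHom f) ≫ a = Spec.map (CommRingCat.ofHom f) ≫ b) : a = b := by
  rw [← cancel_mono X.isoSpec.hom] at h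
  obtain ⟨a', ha⟩ := Spec.map_surjective (a ≫ X.isoSpec.hom)
  obtain ⟨b', hb⟩ := Spec.map_surjective (b ≫ X.isoSpec.hom)
  rw [Category.assoc, Category.assoc, ← ha, ← hb, ← Spec.map_comp, ← Spec.map_comp] at h
  have h2 := Spec.map_injective h
  rw [← cancel_mono X.isoSpec.hom, ← ha, ← hb]
  exact congrArg Spec.map (CommRingCat.hom_ext (RingHom.ext fun x => hf (congrArg (fun φ => φ.hom x) h2)))

theorem exists_factor_spec {A B : Type u} [CommRing A] [CommRing B] (f : A →+* B) (hf : Function.Injective f)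
    [IsAffine X] (g : B →+* B) (hg : ∀ x, g x = x → ∃ y, f y = x) (u : Spec (CommRingCat.of B) ⟶ X)
    (hu : Spec.map (CommRingCat.ofHom g) ≫ u = u) :
    ∃ s : Spec (CommRingCat.of A) ⟶ X, Spec.map (CommRingCat.ofHom f) ≫ s = u := by
  obtain ⟨φ, hφ⟩ := Spec.map_surjective (u ≫ X.isoSpec.hom)
  have h2 : φ ≫ CommRingCat.ofHom g = φ := Spec.map_injective (by
    rw [Spec.map_comp, hφ, ← Category.assoc, hu])
  choose ψ hψ using fun x => hg (φ.hom x) (congrArg (fun χ => χ.hom x) h2)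
  let ψ' : Γ(X, ⊤) →+* A :=
    { toFun := ψ
      map_one' := hf (by rw [hψ, map_one, map_one])
      map_mul' := fun x y => hf (by rw [hψ, map_mul, map_mul, hψ, hψ])
      map_zero' := hf (by rw [hψ, map_zero, map_zero])
      map_add' := fun x y => hf (by rw [hψ, map_add, map_add, hψ, hψ]) }
  refine ⟨Spec.map (CommRingCat.ofHom ψ') ≫ X.isoSpec.inv, ?_⟩
  rw [← Category.assoc, ← Spec.map_comp, show CommRingCat.ofHom ψ' ≫ CommRingCat.ofHom f = φ from
    CommRingCat.hom_ext (RingHom.ext hψ), hφ, Category.assoc, Iso.hom_inv_id, Category.comp_id]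

end Groth.Agent.H9Laurent
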